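import Cfsg.Agent.Lib.PearlRank.Diff
import Cfsg.Agent.Lib.PGroup.MaximalClass

/-!
# p-groups with an element of order p whose centralizer has order p²

`Pc X p n s`; the power map shifts the layers of the lower central series by `p - 1`.
-/

set_option autoImplicit false
set_option linter.unusedSectionVars false

open Subgroup
open scoped commutatorElement

universe u

namespace Cfsg.Agent.PearlRank

/-- The lower central series, Mathlib's indexing. -/
abbrev L (X : Type u) [Group X] (i : ℕ) : Subgroup X := (⊤ : Subgroup X).lowerCentralSeries i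

/-- A group of order `p ^ n` with an element of order `p` with centralizer of order `p ^ 2`. -/
structure Pc (X : Type u) [Group X] (p n : ℕ) (s : X) : Prop where
  card : Nat.card X = p ^ n
  three_le : 3 ≤ n
  pow : s ^ p = 1
  cent : Nat.card (centralizer ({s} : Set X)) = p ^ 2

variable {X : Type u} [Group X] [Finite X] {p n : ℕ} [hp : Fact p.Prime] {s : X}

theorem maximal_of_cent (hX : Nat.card X = p ^ n) (h : Nat.card (centralizer ({s} : Set X)) = p ^ 2) :
    Group.nilpotencyClass X = n - 1 := by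
  refine PGroup.maximal_class_of_selfCentralizing n X hX _ h (le_antisymm ?_ ?_)
  · exact centralizer_le fun a (ha : a = s) => ha ▸ mem_centralizer_singleton_iff.mpr rfl
  · intro u hu
    exact mem_centralizer_iff.mpr fun v hv => congrArg Subtype.val
      ((IsPGroup.isMulCommutative_of_card_eq_prime_sq h).is_comm.comm ⟨v, hv⟩ ⟨u, hu⟩)

namespace Pc

variable (c : Pc X p n s)

include c

theorem pGroup : IsPGroup p X := IsPGroup.of_card c.card

theorem nilpotencyClass : Group.nilpotencyClass X = n - 1 := maximal_of_cent c.card c.cent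

theorem L_bot {i : ℕ} (hi : n - 1 ≤ i) : L X i = ⊥ := by
  haveI := c.pGroup.isNilpotent
  exact Subgroup.lowerCentralSeries_eq_bot_iff_nilpotencyClass_le.mpr (c.nilpotencyClass.le.trans hi)

theorem card_L {i : ℕ} (hi : 1 ≤ i) : Nat.card (L X i) = p ^ (n - 1 - i) := by
  rcases le_or_gt i (n - 1) with h | h
  · exact PGroup.card_lcs_of_maximal_class c.three_le c.card c.nilpotencyClass hi h
  · rw [c.L_bot h.le, card_bot, show n - 1 - i = 0 by omega, pow_zero]

theorem not_mem_center : s ∉ center X := fun h => by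
  have h' : centralizer ({s} : Set X) = ⊤ := centralizer_eq_top_iff_subset.mpr (by simpa using h)
  have h9 := c.cent
  rw [h', card_top, c.card] at h9
  have := Nat.pow_right_injective hp.out.two_le h9
  have := c.three_le
  omega

/-- The conjugates of `s` fill the coset `L₁ s`. -/
theorem exists_conj {a : X} (ha : a ∈ L X 1) : ∃ g : X, g * s * g⁻¹ = a * s := by
  set C := centralizer ({s} : Set X) with hC
  have hmem : ∀ g : X, ⁅g, s⁆ ∈ L X 1 := fun g => commutator_mem_commutator (mem_top g) (mem_top s)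
  have hwd : ∀ g h : X, g⁻¹ * h ∈ C ↔ ⁅g, s⁆ = ⁅h, s⁆ := by
    intro g h
    rw [hC, mem_centralizer_singleton_iff, commutatorElement_def, commutatorElement_def, mul_left_inj]
    constructor
    · intro e
      calc g * s * g⁻¹ = g * (s * (g⁻¹ * h)) * h⁻¹ := by group
        _ = g * (g⁻¹ * h * s) * h⁻¹ := by rw [e]
        _ = h * s * h⁻¹ := by group
    · intro e
      calc g⁻¹ * h * s = g⁻¹ * (h * s * h⁻¹) * h := by group
        _ = g⁻¹ * (g * s * g⁻¹) * h := by rw [← e]
        _ = s * (g⁻¹ * h) := by group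
  let f : X ⧸ C → L X 1 := Quotient.lift (fun g => (⟨⁅g, s⁆, hmem g⟩ : L X 1)) fun g h e =>
    Subtype.ext ((hwd g h).mp (QuotientGroup.leftRel_apply.mp e))
  have hf : Function.Injective f := by
    intro u v
    induction u using QuotientGroup.induction_on with
    | H g => induction v using QuotientGroup.induction_on with
      | H h => exact fun e => QuotientGroup.eq.mpr ((hwd g h).mpr (congrArg Subtype.val e))
  have hcard : Nat.card (X ⧸ C) = Nat.card (L X 1) := by
    have h1 := C.card_mul_index
    rw [index_eq_card, show Nat.card C = p ^ 2 from c.cent, c.card,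
      show n = 2 + (n - 1 - 1) by have := c.three_le; omega, pow_add] at h1
    rw [c.card_L le_rfl]
    exact Nat.eq_of_mul_eq_mul_left (pow_pos hp.out.pos _) h1
  have := Fintype.ofFinite (X ⧸ C)
  obtain ⟨u, hu⟩ := (hf.bijective_of_nat_card_le hcard.ge).2 ⟨a, ha⟩
  induction u using QuotientGroup.induction_on with
  | H g =>
    refine ⟨g, ?_⟩
    have hu' : ⁅g, s⁆ = a := congrArg Subtype.val hu
    rw [← hu', commutatorElement_def]
    group

theorem not_mem_L_one : s ∉ L X 1 := fun h => by
  obtain ⟨g, hg⟩ := c.exists_conj (inv_mem h)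
  rw [inv_mul_cancel, conj_eq_one_iff] at hg
  exact c.not_mem_center (hg ▸ one_mem _)

theorem coset_pow {a : X} (ha : a ∈ L X 1) : (a * s) ^ p = 1 := by
  obtain ⟨g, hg⟩ := c.exists_conj ha
  rw [← hg, conj_pow, c.pow, mul_one, mul_inv_cancel]

theorem card_cent_inf {i : ℕ} (hi : 1 ≤ i) : Nat.card ↥(L X i ⊓ centralizer ({s} : Set X)) ≤ p := by
  have hlt : L X i ⊓ centralizer ({s} : Set X) < centralizer ({s} : Set X) := by
    refine lt_of_le_of_ne inf_le_right fun h => c.not_mem_L_one ?_
    exact Subgroup.lowerCentralSeries_antitone _ hi (h.ge (mem_centralizer_singleton_iff.mpr rfl)).1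
  have := PGroup.mul_card_le_of_lt c.pGroup hlt
  rw [c.cent, pow_two] at this
  exact Nat.le_of_mul_le_mul_left this hp.out.pos

omit c in
/-- The displacement by `s`. -/
def D (s : X) (a : X) : X := a⁻¹ * (s * a * s⁻¹)

omit c in
theorem D_mem {i : ℕ} {a : X} (ha : a ∈ L X i) : D s a ∈ L X (i + 1) := by
  have : D s a = ⁅a⁻¹, s⁆ := by simp [D, commutatorElement_def, mul_assoc]
  rw [this]
  exact commutator_mem_commutator (inv_mem ha) (mem_top s)

theorem D_surj {i : ℕ} (hi : 1 ≤ i) {b : X} (hb : b ∈ L X (i + 1)) : ∃ a ∈ L X i, D s a = b := by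
  classical
  haveI := Fintype.ofFinite X
  set C := L X i ⊓ centralizer ({s} : Set X) with hC
  -- the map on cosets is injective
  have hwd : ∀ g h : L X i, (g : X) * (h : X)⁻¹ ∈ C ↔ D s g = D s h := by
    intro g h
    constructor
    · intro e
      have h1 := mem_centralizer_singleton_iff.mp e.2
      calc D s g = (g : X)⁻¹ * (s * ((g : X) * (h : X)⁻¹)) * h * s⁻¹ := by simp [D]; group
        _ = (g : X)⁻¹ * ((g : X) * (h : X)⁻¹ * s) * h * s⁻¹ := by rw [h1]
        _ = D s h := by simp [D]; group
    · intro e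
      refine ⟨(L X i).mul_mem g.2 ((L X i).inv_mem h.2), mem_centralizer_singleton_iff.mpr ?_⟩
      calc (g : X) * (h : X)⁻¹ * s = (g : X) * D s h * s * (h : X)⁻¹ := by simp [D]; group
        _ = (g : X) * D s g * s * (h : X)⁻¹ := by rw [e]
        _ = s * ((g : X) * (h : X)⁻¹) := by simp [D]; group
  let Cs := C.subgroupOf (L X i)
  let f : L X i ⧸ Cs → L X (i + 1) := Quotient.lift
    (fun g => (⟨D s ((g⁻¹ : L X i) : X), D_mem (g⁻¹).2⟩ : L X (i + 1))) fun g h e => Subtype.ext ((hwd _ _).mp (by
      have := QuotientGroup.leftRel_apply.mp e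
      simpa [Cs, mem_subgroupOf] using this))
  have hf : Function.Injective f := by
    intro u v
    induction u using QuotientGroup.induction_on with
    | H g => induction v using QuotientGroup.induction_on with
      | H h =>
        intro e
        refine QuotientGroup.eq.mpr ?_
        have := (hwd g⁻¹ h⁻¹).mpr (congrArg Subtype.val e)
        simpa [Cs, mem_subgroupOf] using this
  have hcard : Nat.card (L X (i + 1)) ≤ Nat.card (L X i ⧸ Cs) := by
    have h1 := Cs.card_mul_index
    rw [index_eq_card, Nat.card_congr (Subgroup.subgroupOfEquivOfLe (inf_le_left : C ≤ L X i)).toEquiv] at h1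
    have h2 : Nat.card (L X i) ≤ p * Nat.card (L X i ⧸ Cs) := h1.ge.trans (Nat.mul_le_mul_right _ (c.card_cent_inf hi))
    rcases le_or_gt (n - 1) i with h | h
    · rw [c.L_bot (by omega), card_bot]; exact Nat.card_pos
    · rw [c.card_L hi, show n - 1 - i = n - 1 - (i + 1) + 1 by omega, pow_succ', ← c.card_L (by omega : 1 ≤ i + 1)] at h2
      exact Nat.le_of_mul_le_mul_left h2 hp.out.pos
  obtain ⟨u, hu⟩ := (hf.bijective_of_nat_card_le hcard).2 ⟨b, hb⟩
  induction u using QuotientGroup.induction_on with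
  | H g => exact ⟨_, (g⁻¹).2, congrArg Subtype.val hu⟩

theorem D_sharp {i : ℕ} (hi : 1 ≤ i) (hin : i + 1 ≤ n - 2) {a : X} (ha : a ∈ L X i) (ha' : a ∉ L X (i + 1)) :
    D s a ∉ L X (i + 2) := by
  intro hD
  set π := QuotientGroup.mk' (L X (i + 2))
  have hgen : L X (i + 1) ⊔ zpowers a = L X i := by
    refine PGroup.eq_of_le_of_card_le (sup_le (Subgroup.lowerCentralSeries_antitone _ (Nat.le_succ i))
      (zpowers_le.mpr ha)) ?_
    have := PGroup.mul_card_le_of_lt c.pGroup
      (left_lt_sup.2 fun h => ha' (h (mem_zpowers a)) : L X (i + 1) < L X (i + 1) ⊔ zpowers a)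
    rw [c.card_L (by omega : 1 ≤ i + 1), ← pow_succ', show n - 1 - (i + 1) + 1 = n - 1 - i by omega,
      ← c.card_L hi] at this
    exact this
  have hc : L X i ≤ (centralizer {π s}).comap π := by
    rw [← hgen]
    refine sup_le (fun y hy => ?_) (zpowers_le.mpr ?_)
    · rw [mem_comap, mem_centralizer_singleton_iff, ← commutatorElement_eq_one_iff_mul_comm, ← map_commutatorElement]
      exact (QuotientGroup.eq_one_iff _).2 (commutator_mem_commutator hy (mem_top s))
    · rw [mem_comap, mem_centralizer_singleton_iff]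
      have h1 : π (D s a) = 1 := (QuotientGroup.eq_one_iff _).2 hD
      rw [D, map_mul, map_mul, map_mul, map_inv, map_inv, inv_mul_eq_one] at h1
      rw [eq_mul_inv_iff_mul_eq] at h1
      exact h1
  have hle : L X (i + 1) ≤ L X (i + 2) := by
    intro y hy
    obtain ⟨b, hb, rfl⟩ := c.D_surj hi hy
    refine (QuotientGroup.eq_one_iff _).1 ?_
    show π (D s b) = 1
    have h1 := mem_centralizer_singleton_iff.mp (hc hb)
    rw [D, map_mul, map_mul, map_mul, map_inv, map_inv, ← h1, mul_inv_cancel_right, inv_mul_cancel]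
  have := Subgroup.card_le_of_le hle
  rw [c.card_L (by omega : 1 ≤ i + 1), c.card_L (by omega : 1 ≤ i + 2)] at this
  have := (Nat.pow_le_pow_iff_right hp.out.one_lt).1 this
  omega

theorem D_iter_mem {i : ℕ} {a : X} (ha : a ∈ L X i) : ∀ k, (D s)^[k] a ∈ L X (i + k) := by
  intro k
  induction k with
  | zero => exact ha
  | succ k ih => rw [Function.iterate_succ_apply']; exact D_mem ih

theorem D_iter_sharp {i : ℕ} (hi : 1 ≤ i) {a : X} (ha : a ∈ L X i) (ha' : a ∉ L X (i + 1)) :
    ∀ k, i + k ≤ n - 2 → (D s)^[k] a ∉ L X (i + k + 1) := by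
  intro k
  induction k with
  | zero => exact fun _ => ha'
  | succ k ih =>
    intro hk
    rw [Function.iterate_succ_apply', show i + (k + 1) + 1 = i + k + 2 by omega]
    exact c.D_sharp (by omega) (by omega) (c.D_iter_mem ha k) (ih (by omega))

open PolySeq in
/-- The fundamental congruence. -/
theorem pow_congruence {i : ℕ} (hi : 1 ≤ i) {u : X} (hu : u ∈ L X i)
    (hpow : ∀ j, i + 1 ≤ j → ∀ c ∈ L X j, c ^ p ∈ L X (i + p)) :
    (D s)^[p - 1] u * u ^ p ∈ L X (i + p) := by
  have hF := isFiltration_lowerCentralSeries (G := X)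
  haveI : ∀ j, (lcsFil X j).Normal := fun j => by unfold lcsFil; infer_instance
  have hlev : ∀ j, lcsFil X (j + 1) = L X j := fun j => by simp [lcsFil]
  -- conjugates by powers of `s`
  let v : X → ℕ → X := fun a m => s ^ (m + 1) * a * (s ^ (m + 1))⁻¹
  have hdiff : ∀ a, diff (v a) = v (D s a) := fun a => by
    funext m
    simp only [diff, v, D, pow_succ]
    group
  have hpoly : ∀ k j, 1 ≤ j → ∀ a ∈ L X j, IsPoly (lcsFil X) k (j + 1) (v a) := by
    intro k
    induction k with
    | zero => intro j _ a ha m; rw [hlev]; exact (inferInstance : (L X j).Normal).conj_mem a ha _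
    | succ k ih =>
      intro j hj a ha
      refine ⟨fun m => by rw [hlev]; exact (inferInstance : (L X j).Normal).conj_mem a ha _, ?_⟩
      rw [hdiff]
      exact ih (j + 1) (by omega) _ (D_mem ha)
  have hdlt : ∀ k a, dlt k (v a) = v ((D s)^[k] a) 0 := by
    intro k
    induction k with
    | zero => intro a; rfl
    | succ k ih =>
      intro a
      show dlt k (diff (v a)) = _
      rw [hdiff, ih, Function.iterate_succ_apply]
  -- the sequence
  let f : ℕ → X := fun m => (s * u) ^ m * (s ^ m)⁻¹
  have hfd : diff f = v u := by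
    funext m
    simp only [diff, f, v, pow_succ, mul_inv_rev, inv_inv]
    group
  have hfmem : ∀ m, f m ∈ L X i := by
    intro m
    induction m with
    | zero => simp [f]
    | succ m ih =>
      have h1 : f (m + 1) = f m * diff f m := by simp [diff]
      rw [h1, hfd]
      exact mul_mem ih ((inferInstance : (L X i).Normal).conj_mem u hu _)
  have hf : IsPoly (lcsFil X) p i f := by
    rw [show p = p - 1 + 1 by have := hp.out.two_le; omega]
    refine ⟨fun m => hF.anti (Nat.le_succ i) (by rw [hlev]; exact hfmem m), ?_⟩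
    rw [hfd]
    exact hpoly _ i hi u hu
  have key := pow_congr hF hp.out hi hf (by simp [f]) (fun j hj a ha => by
    obtain ⟨j, rfl⟩ : ∃ j', j = j' + 1 := ⟨j - 1, by omega⟩
    rw [hlev] at ha ⊢
    exact hpow j (by omega) a ha)
  have hfp : f p = 1 := by
    have h1 : s * u = (s * u * s⁻¹) * s := by group
    have h2 := c.coset_pow (a := s * u * s⁻¹) (Subgroup.lowerCentralSeries_antitone _ hi
      ((inferInstance : (L X i).Normal).conj_mem u hu s))
    show (s * u) ^ p * (s ^ p)⁻¹ = 1
    rw [h1, h2, c.pow, inv_one, mul_one]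
  have hf1 : f 1 = s * u * s⁻¹ := by simp [f]
  have hdf : dlt p f = s * (D s)^[p - 1] u * s⁻¹ := by
    conv_lhs => rw [show p = p - 1 + 1 by have := hp.out.two_le; omega]
    show dlt (p - 1) (diff f) = _
    rw [hfd, hdlt]
    simp [v]
  rw [hfp, hf1, hdf, map_one, one_mul, ← map_pow, ← map_inv] at key
  have h := QuotientGroup.eq.1 key.symm
  rw [show (i + p + 1) = (i + p) + 1 by omega, hlev, conj_pow] at h
  have h' := (inferInstance : (L X (i + p)).Normal).conj_mem _ h s⁻¹
  have h'' := inv_mem h'
  have e : (D s)^[p - 1] u * u ^ p = u ^ (-(p : ℤ)) *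
      ((s⁻¹ * ((s * (D s)^[p - 1] u * s⁻¹)⁻¹ * (s * u ^ p * s⁻¹)⁻¹) * s⁻¹⁻¹)⁻¹) * u ^ (p : ℤ) := by
    rw [zpow_neg, zpow_natCast]
    group
  rw [e, zpow_neg]
  simpa using (inferInstance : (L X (i + p)).Normal).conj_mem _ h'' (u ^ (p : ℤ))⁻¹

/-- The power map moves down `p - 1` layers. -/
theorem pow_mem : ∀ {i : ℕ}, 1 ≤ i → ∀ u ∈ L X i, u ^ p ∈ L X (i + p - 1) := by
  suffices H : ∀ d i, n ≤ i + d → 1 ≤ i → ∀ u ∈ L X i, u ^ p ∈ L X (i + p - 1) from
    fun {i} hi => H n i (by omega) hi
  intro d
  induction d with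
  | zero =>
    intro i hd _ u hu
    rw [c.L_bot (by omega), mem_bot] at hu
    rw [hu, one_pow]; exact one_mem _
  | succ d ih =>
    intro i hd hi u hu
    have h := c.pow_congruence hi hu fun j hj a ha =>
      Subgroup.lowerCentralSeries_antitone _ (by omega : i + p ≤ j + p - 1) (ih j (by omega) (by omega) a ha)
    have h1 : (D s)^[p - 1] u ∈ L X (i + p - 1) := by
      have := c.D_iter_mem hu (p - 1)
      rwa [show i + (p - 1) = i + p - 1 by have := hp.out.two_le; omega] at this
    have h2 := mul_mem (inv_mem h1) (Subgroup.lowerCentralSeries_antitone _ (by omega : i + p - 1 ≤ i + p) h)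
    rwa [inv_mul_cancel_left] at h2

/-- It does so exactly. -/
theorem pow_sharp {i : ℕ} (hi : 1 ≤ i) (hin : i + p ≤ n - 1) {u : X} (hu : u ∈ L X i) (hu' : u ∉ L X (i + 1)) :
    u ^ p ∈ L X (i + p - 1) ∧ u ^ p ∉ L X (i + p) := by
  refine ⟨c.pow_mem hi u hu, fun h => ?_⟩
  have h1 := c.pow_congruence hi hu fun j hj a ha =>
    Subgroup.lowerCentralSeries_antitone _ (by omega : i + p ≤ j + p - 1) (c.pow_mem (by omega) a ha)
  have h2 := c.D_iter_sharp hi hu hu' (p - 1) (by have := hp.out.two_le; omega)
  rw [show i + (p - 1) + 1 = i + p by have := hp.out.two_le; omega] at h2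
  apply h2
  have := mul_mem h1 (inv_mem h)
  rwa [mul_inv_cancel_right] at this

end Pc

end Cfsg.Agent.PearlRank
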