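import Cfsg.Agent.Lib.PGroup.PolySeq

/-!
# Top differences of polynomial sequences

* `dlt k f` : the `k`-th difference at `0`;
* `dlt_mul` : modulo the next level it is multiplicative;
* `pow_congr` : the value at `p` of a polynomial sequence.
-/

set_option autoImplicit false
set_option linter.unusedSectionVars false

open Subgroup
open scoped commutatorElement

namespace Cfsg.Agent.PearlRank

open PolySeq

variable {G : Type*} [Group G] {F : ℕ → Subgroup G}

/-- The `k`-th difference at `0`. -/
def dlt : ℕ → (ℕ → G) → G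
  | 0, f => f 0
  | k + 1, f => dlt k (diff f)

theorem dlt_mem : ∀ {k i : ℕ} {f : ℕ → G}, IsPoly F k i f → dlt k f ∈ F (i + k) := by
  intro k
  induction k with
  | zero => exact fun h => h 0
  | succ k ih =>
    intro i f h
    have := ih h.2
    rwa [show i + 1 + k = i + (k + 1) by omega] at this

theorem dlt_one : ∀ k, dlt k (fun _ : ℕ => (1 : G)) = 1 := by
  intro k
  induction k with
  | zero => rfl
  | succ k ih =>
    show dlt k (diff fun _ : ℕ => (1 : G)) = 1
    rw [show diff (fun _ : ℕ => (1 : G)) = fun _ => 1 by funext n; simp [diff]]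
    exact ih

theorem dlt_pow_choose : ∀ {k r : ℕ} (c : G), r < k → dlt k (fun n => c ^ n.choose r) = 1 := by
  intro k
  induction k with
  | zero => exact fun _ h => absurd h (Nat.not_lt_zero _)
  | succ k ih =>
    intro r c hr
    show dlt k (diff fun n => c ^ n.choose r) = 1
    cases r with
    | zero =>
      rw [show diff (fun n => c ^ n.choose 0) = fun _ => 1 by funext n; simp [diff]]
      exact dlt_one k
    | succ r =>
      rw [show diff (fun n => c ^ n.choose (r + 1)) = fun n => c ^ n.choose r by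
        funext n; simp [diff, Nat.choose_succ_succ, pow_add]; group]
      exact ih c (by omega)

theorem dlt_eq_of_vanish : ∀ {k : ℕ} {f : ℕ → G}, (∀ m < k, f m = 1) → dlt k f = f k := by
  intro k
  induction k with
  | zero => exact fun _ => rfl
  | succ k ih =>
    intro f hv
    show dlt k (diff f) = f (k + 1)
    rw [ih fun m hm => by simp [diff, hv m (by omega), hv (m + 1) (by omega)]]
    simp [diff, hv k (by omega)]

/-- Modulo the next level the top difference is multiplicative. -/
theorem dlt_mul (hF : IsFiltration F) : ∀ {k i : ℕ} {f g : ℕ → G} [(F (i + k + 1)).Normal],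
    1 ≤ i → IsPoly F k i f → IsPoly F k i g →
    QuotientGroup.mk' (F (i + k + 1)) (dlt k fun n => f n * g n) =
      QuotientGroup.mk' (F (i + k + 1)) (dlt k f) * QuotientGroup.mk' (F (i + k + 1)) (dlt k g) := by
  intro k
  induction k with
  | zero => intro i f g _ _ _ _; exact map_mul _ _ _
  | succ k ih =>
    intro i f g hn hi hf hg
    set π := QuotientGroup.mk' (F (i + (k + 1) + 1)) with hπ
    show π (dlt k (diff fun n => f n * g n)) = π (dlt k (diff f)) * π (dlt k (diff g))
    rw [show diff (fun n => f n * g n) = fun n => diff f n * ⁅(diff f n)⁻¹, (g n)⁻¹⁆ * diff g n by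
      funext n; simp only [diff, commutatorElement_def]; group]
    haveI : (F (i + 1 + k + 1)).Normal := by rwa [show i + 1 + k + 1 = i + (k + 1) + 1 by omega]
    have hc : IsPoly F k (i + 1 + 1) fun n => ⁅(diff f n)⁻¹, (g n)⁻¹⁆ :=
      IsPoly.anti hF (by omega) ((isPoly_ops hF k).2.2 (hf.2.inv hF) (hg.of_succ.inv hF))
    have hc' : IsPoly F k (i + 1) fun n => ⁅(diff f n)⁻¹, (g n)⁻¹⁆ := IsPoly.anti hF (by omega) hc
    have e1 := ih (i := i + 1) (by omega) (hf.2.mul hF hc') hg.2
    have e2 := ih (i := i + 1) (by omega) hf.2 hc'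
    have e3 : π (dlt k fun n => ⁅(diff f n)⁻¹, (g n)⁻¹⁆) = 1 := by
      refine (QuotientGroup.eq_one_iff _).2 ?_
      have := dlt_mem hc
      rwa [show i + 1 + 1 + k = i + (k + 1) + 1 by omega] at this
    have hcast : ∀ a b c : G, (QuotientGroup.mk' (F (i + 1 + k + 1)) a =
        QuotientGroup.mk' (F (i + 1 + k + 1)) b * QuotientGroup.mk' (F (i + 1 + k + 1)) c) → π a = π b * π c := by
      intro a b c h
      rw [← map_mul] at h ⊢
      refine QuotientGroup.eq.2 ?_
      have h' := QuotientGroup.eq.1 h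
      rwa [show i + 1 + k + 1 = i + (k + 1) + 1 by omega] at h'
    rw [hcast _ _ _ e1, hcast _ _ _ e2, e3, mul_one]

/-- The value at a prime of a polynomial sequence, modulo the level after the top. -/
theorem pow_congr (hF : IsFiltration F) {p i : ℕ} (hp : p.Prime) [(F (i + p + 1)).Normal] (hi : 1 ≤ i)
    {f : ℕ → G} (hf : IsPoly F p i f) (hf0 : f 0 = 1)
    (hpow : ∀ j, i + 2 ≤ j → ∀ c ∈ F j, c ^ p ∈ F (i + p + 1)) :
    QuotientGroup.mk' (F (i + p + 1)) (f p) * (QuotientGroup.mk' (F (i + p + 1)) (f 1) ^ p)⁻¹ =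
      QuotientGroup.mk' (F (i + p + 1)) (dlt p f) := by
  set π := QuotientGroup.mk' (F (i + p + 1)) with hπ
  suffices H : ∀ r, 2 ≤ r → r ≤ p → ∃ h : ℕ → G, IsPoly F p i h ∧ (∀ m < r, h m = 1) ∧
      π (dlt p h) = π (dlt p f) ∧ π (h p) = π (f p) * (π (f 1) ^ p)⁻¹ by
    obtain ⟨h, -, hv, hd, hpp⟩ := H p hp.two_le le_rfl
    rw [← hpp, ← hd, dlt_eq_of_vanish hv]
  intro r hr2
  induction r, hr2 using Nat.le_induction with
  | base =>
    intro _
    have hc : f 1 ∈ F (i + 1) := hf.mem_of_vanish hp.one_le fun m hm => by rw [show m = 0 by omega, hf0]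
    refine ⟨fun n => f n * ((f 1)⁻¹) ^ n.choose 1, hf.mul hF (isPoly_pow_choose hF (inv_mem hc)), ?_, ?_, ?_⟩
    · intro m hm
      rcases (show m = 0 ∨ m = 1 by omega) with rfl | rfl
      · simp [hf0]
      · simp
    · rw [dlt_mul hF hi hf (isPoly_pow_choose hF (inv_mem hc)), dlt_pow_choose _ hp.one_lt, map_one, mul_one]
    · rw [map_mul, Nat.choose_one_right, map_pow, map_inv, inv_pow]
  | succ r hr ih =>
    intro hrp
    obtain ⟨h, hh, hv, hd, hpp⟩ := ih (by omega)
    have hc : h r ∈ F (i + r) := hh.mem_of_vanish (by omega) hv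
    refine ⟨fun n => h n * ((h r)⁻¹) ^ n.choose r, hh.mul hF (isPoly_pow_choose hF (inv_mem hc)), ?_, ?_, ?_⟩
    · intro m hm
      rcases eq_or_ne m r with rfl | hne
      · simp
      · simp [hv m (by omega), Nat.choose_eq_zero_of_lt (show m < r by omega)]
    · rw [dlt_mul hF hi hh (isPoly_pow_choose hF (inv_mem hc)), dlt_pow_choose _ (show r < p by omega),
        map_one, mul_one, hd]
    · obtain ⟨t, ht⟩ := hp.dvd_choose_self (show r ≠ 0 by omega) (show r < p by omega)
      have hmem : ((h r)⁻¹) ^ p.choose r ∈ F (i + p + 1) := by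
        rw [ht, pow_mul]
        exact pow_mem (hpow (i + r) (by omega) _ (inv_mem hc)) t
      rw [map_mul, hpp, show π (((h r)⁻¹) ^ p.choose r) = 1 from (QuotientGroup.eq_one_iff _).2 hmem, mul_one]

end Cfsg.Agent.PearlRank
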