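import Cfsg.Agent.Lib.PearlRank.Rank
import Cfsg.Agent.Lib.PGroup.Omega
import Cfsg.Agent.Lib.PGroup.NormalAbelian
import Cfsg.Agent.Lib.FusionAbelianIndex.Main

/-!
# A pearl gives an element of order p with centralizer of order p²
-/

set_option autoImplicit false
set_option linter.unusedSectionVars false

open Subgroup
open scoped commutatorElement

universe u

namespace Cfsg.Agent.PearlRank

open Cfsg Cfsg.FusionSystem Cfsg.Agent.Fusion Cfsg.Agent.FusionChain

variable {p : ℕ} [hp : Fact p.Prime]

/-- An automorphism of `p`-power order is trivial on an invariant factor of order at most `p`. -/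
theorem triv_factor {Y : Type*} [Group Y] [Finite Y] (hY : IsPGroup p Y) {A M : Subgroup Y} [M.Normal]
    (hle : M ≤ A) (hcard : Nat.card A ≤ p * Nat.card M) (α : MulAut Y) {k : ℕ} (hαk : α ^ p ^ k = 1)
    (hA : ∀ a ∈ A, α a ∈ A) (hM : ∀ a ∈ M, α a ∈ M) {a : Y} (ha : a ∈ A) : a⁻¹ * α a ∈ M := by
  by_cases haM : a ∈ M
  · exact mul_mem (inv_mem haM) (hM a haM)
  have hsup : M ⊔ zpowers a = A := PGroup.eq_sup_zpowers_of_card hY hle hcard ha haM
  set q := QuotientGroup.mk' M
  have hqa : q a ≠ 1 := fun h => haM ((QuotientGroup.eq_one_iff a).1 h)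
  have hmem : ∀ y ∈ A, ∃ i : ℕ, q y = q a ^ i := by
    intro y hy
    rw [← hsup] at hy
    obtain ⟨m, hm, b, hb, rfl⟩ := mem_sup_of_normal_left.mp hy
    obtain ⟨i, rfl⟩ := mem_powers_iff_mem_zpowers.mpr hb
    exact ⟨i, by rw [map_mul, show q m = 1 from (QuotientGroup.eq_one_iff m).2 hm, one_mul, ← map_pow]⟩
  have hord : orderOf (q a) = p := by
    have hP := hY.to_quotient M
    have hap : q a ^ p = 1 := by
      have h1 : Nat.card (A.map q) ≤ p := by
        have h := Solvable.card_eq_card_map_mul q A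
        rw [QuotientGroup.ker_mk', inf_of_le_right hle] at h
        rw [h] at hcard
        exact Nat.le_of_mul_le_mul_right hcard Nat.card_pos
      obtain ⟨j, hj⟩ := IsPGroup.iff_orderOf.1 hP (q a)
      refine orderOf_dvd_iff_pow_eq_one.1 ?_
      have h2 : orderOf (q a) ≤ p := by
        rw [← Nat.card_zpowers]
        exact (Subgroup.card_le_of_le (zpowers_le.mpr (mem_map_of_mem q ha))).trans h1
      rw [hj] at h2 ⊢
      have : j ≤ 1 := (Nat.pow_le_pow_iff_right hp.out.one_lt).1 (h2.trans (pow_one p).ge)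
      exact (pow_dvd_pow p this).trans (pow_one p).dvd
    exact orderOf_eq_prime hap hqa
  obtain ⟨i, hi⟩ := hmem _ (hA a ha)
  have hcong : ∀ y z : Y, q y = q z → q (α y) = q (α z) := fun y z e => by
    refine QuotientGroup.eq.2 ?_
    rw [← map_inv, ← map_mul]
    exact hM _ (QuotientGroup.eq.1 e)
  have hiter : ∀ m, q ((α ^ m) a) = q a ^ (i ^ m) := by
    intro m
    induction m with
    | zero => simp
    | succ m ih =>
      rw [pow_succ', MulAut.mul_apply, hcong _ (a ^ (i ^ m)) (by rw [ih, map_pow]), map_pow, map_pow, hi,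
        ← pow_mul, ← pow_succ']
  have h1 := hiter (p ^ k)
  rw [hαk, MulAut.one_apply] at h1
  have h2 : (i ^ p ^ k) ≡ 1 [MOD p] := by
    have hm : q a ^ (i ^ p ^ k) = q a ^ 1 := by rw [pow_one]; exact h1.symm
    have hm' := pow_eq_pow_iff_modEq.1 hm
    rwa [hord] at hm'
  have h3 : ((i : ℕ) : ZMod p) = 1 := by
    have := (ZMod.natCast_eq_natCast_iff _ _ _).2 h2
    rwa [Nat.cast_pow, ZMod.pow_card_pow, Nat.cast_one] at this
  have h4 : i ≡ 1 [MOD p] := (ZMod.natCast_eq_natCast_iff _ _ _).1 (by rw [h3, Nat.cast_one])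
  have h5 : q (α a) = q a := by
    rw [hi]
    conv_rhs => rw [← pow_one (q a)]
    exact pow_eq_pow_iff_modEq.2 (by rw [hord]; exact h4)
  exact QuotientGroup.eq.1 h5.symm

variable {Ω : Type u} [Group Ω] {S : Subgroup Ω} [Finite S] {F : FusionSystem S} {E : Subgroup Ω}

theorem centralizer_le (hE : F.IsCentric E) :
    centralizer ((E.subgroupOf S : Subgroup S) : Set S) ≤ E.subgroupOf S := by
  intro g hg
  exact centralizerIn_le_of_centric hE ⟨g.2, mem_centralizer_iff.mpr fun e he =>
    congrArg Subtype.val (mem_centralizer_iff.mp hg ⟨e, hE.1 he⟩ he)⟩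

/-- An elementary pearl. -/
theorem pc_of_sq (hS : IsPGroup p S) (hF : F.IsSaturated p)
    (hE : F.IsEssential p E) (h9 : Nat.card E = p ^ 2) (h3 : ∀ x ∈ E, x ^ p = 1) {n : ℕ}
    (hn : Nat.card S = p ^ n) : ∃ x : S, Pc S p n x := by
  have r := FusionAbelianIndex.Rad.of_essential hS hF hE
  set E' := E.subgroupOf S with hE'
  have hc' : Nat.card E' = p ^ 2 := by
    rw [Nat.card_congr (subgroupOfEquivOfLe r.lt.le).toEquiv, h9]
  have hne : E' ≠ ⊤ := fun h => r.lt.not_ge (subgroupOf_eq_top.mp h)
  have h3n : 3 ≤ n := by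
    have h := PGroup.mul_card_le_of_lt hS (lt_top_iff_ne_top.mpr hne)
    rw [hc', card_top, hn, ← pow_succ'] at h
    exact (Nat.pow_le_pow_iff_right hp.out.one_lt).mp h
  have hC := centralizer_le hE.1
  have hZ : Subgroup.center S ≤ E' := (Subgroup.center_le_centralizer _).trans hC
  obtain ⟨x, hx, hxZ⟩ : ∃ x ∈ E', x ∉ Subgroup.center S := by
    by_contra h
    push Not at h
    exact hne (top_le_iff.mp ((centralizer_eq_top_iff_subset.mpr h).ge.trans hC))
  refine ⟨x, hn, h3n, Subtype.ext (by simpa using h3 _ hx), ?_⟩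
  obtain ⟨k, hk, hk'⟩ := IsPGroup.card_center_eq_prime_pow hn (by omega)
  have hsup := PGroup.eq_sup_zpowers_of_card hS hZ (by
    rw [hc', hk', ← pow_succ']; exact Nat.pow_le_pow_right hp.out.pos (by omega)) hx hxZ
  have hE'c : E' ≤ centralizer ({x} : Set S) := by
    rw [← hsup]
    exact sup_le (Subgroup.center_le_centralizer _) (zpowers_le.mpr (mem_centralizer_singleton_iff.mpr rfl))
  have hle : centralizer ({x} : Set S) ≤ centralizer (E' : Set S) := fun g hg => by
    refine mem_centralizer_iff.mpr fun e he => ?_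
    have hle : E' ≤ centralizer ({g} : Set S) := by
      rw [← hsup]
      exact sup_le (Subgroup.center_le_centralizer _) (zpowers_le.mpr
        (mem_centralizer_singleton_iff.mpr (mem_centralizer_singleton_iff.mp hg).symm))
    exact mem_centralizer_singleton_iff.mp (hle he)
  rw [le_antisymm (hle.trans hC) hE'c, hc']

omit [Finite S] in
theorem center_char {γ : MulAut E} {z : E} (hz : z ∈ Subgroup.center E) : γ z ∈ Subgroup.center E := by
  refine mem_center_iff.mpr fun t => ?_
  obtain ⟨t, rfl⟩ := γ.surjective t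
  rw [← map_mul, ← map_mul, mem_center_iff.mp hz t]

/-- A nonabelian pearl. -/
theorem pc_of_cube (hS : IsPGroup p S) (hF : F.IsSaturated p) (hp2 : p ≠ 2)
    (hE : F.IsEssential p E) (h27 : Nat.card E = p ^ 3) (hnc : ¬ IsMulCommutative E) {n : ℕ}
    (hn : Nat.card S = p ^ n) : ∃ x : S, Pc S p n x := by
  have r := FusionAbelianIndex.Rad.of_essential hS hF hE
  have hES := r.lt.le
  have := finite_of_le (S := S) hES
  have hP : IsPGroup p E := IsPGroup.of_card h27
  have := finite_mulAut hES
  -- the structure of `E`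
  have hncyc : ∀ {N : Subgroup E} [N.Normal], IsCyclic (E ⧸ N) → ¬ N ≤ Subgroup.center E := by
    intro N hN hc hle
    exact hnc ((QuotientGroup.mk' N).isMulCommutative_of_isCyclic_of_ker_le_center
      (by rw [QuotientGroup.ker_mk']; exact hle))
  obtain ⟨k, hk, hk'⟩ := IsPGroup.card_center_eq_prime_pow h27 (by norm_num)
  have hidx : Nat.card (E ⧸ Subgroup.center E) * p ^ k = p ^ 3 := by
    rw [← hk', ← card_eq_card_quotient_mul_card_subgroup, h27]
  have hk1 : k = 1 := by
    by_contra h
    have hk3 : k ≤ 3 := (Nat.pow_le_pow_iff_right hp.out.one_lt).1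
      (hidx ▸ Nat.le_mul_of_pos_left _ Nat.card_pos)
    rw [show (3 : ℕ) = (3 - k) + k by omega, pow_add] at hidx
    have hq := Nat.eq_of_mul_eq_mul_right (pow_pos hp.out.pos k) hidx
    refine hncyc (N := Subgroup.center E) ?_ le_rfl
    rcases (show k = 2 ∨ k = 3 by omega) with rfl | rfl
    · exact isCyclic_of_prime_card (p := p) (hq.trans (pow_one p))
    · haveI : Subsingleton (E ⧸ Subgroup.center E) := (Nat.card_eq_one_iff_unique.mp (hq.trans (pow_zero p))).1
      exact isCyclic_of_subsingleton
  subst hk1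
  rw [pow_one] at hk'
  have hq : Nat.card (E ⧸ Subgroup.center E) = p ^ 2 := by
    rw [show (3 : ℕ) = 2 + 1 from rfl, pow_add] at hidx
    exact Nat.eq_of_mul_eq_mul_right (pow_pos hp.out.pos 1) hidx
  have hcomm : ∀ a b : E, ⁅a, b⁆ ∈ Subgroup.center E := fun a b => by
    rw [← QuotientGroup.eq_one_iff]
    show QuotientGroup.mk' _ ⁅a, b⁆ = 1
    rw [map_commutatorElement, commutatorElement_eq_one_iff_mul_comm]
    exact (IsPGroup.isMulCommutative_of_card_eq_prime_sq hq).is_comm.comm _ _
  have hpowc : ∀ y : E, y ^ p ∈ Subgroup.center E := fun y => by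
    rw [← QuotientGroup.eq_one_iff, QuotientGroup.mk_pow]
    obtain ⟨j, hj, hj'⟩ := (Nat.dvd_prime_pow hp.out).mp (hq ▸ orderOf_dvd_natCard (y : E ⧸ Subgroup.center E))
    rcases (show j ≤ 1 ∨ j = 2 by omega) with h | rfl
    · rw [← orderOf_dvd_iff_pow_eq_one, hj']
      exact (pow_dvd_pow p h).trans (pow_one p).dvd
    · exact absurd le_rfl (hncyc (N := Subgroup.center E) (isCyclic_of_orderOf_eq_card _ (hj'.trans hq.symm)))
  -- an element acting trivially modulo the centre lies in `E`
  set E' := E.subgroupOf S with hE'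
  let ι : E →* S := Subgroup.inclusion hES
  have hιinj : Function.Injective ι := Subgroup.inclusion_injective hES
  have hc' : Nat.card E' = p ^ 3 := by
    rw [Nat.card_congr (subgroupOfEquivOfLe hES).toEquiv, h27]
  have hne : E' ≠ ⊤ := fun h => r.lt.not_ge (subgroupOf_eq_top.mp h)
  have h4 : 4 ≤ n := by
    have h := PGroup.mul_card_le_of_lt hS (lt_top_iff_ne_top.mpr hne)
    rw [hc', card_top, hn, ← pow_succ'] at h
    exact (Nat.pow_le_pow_iff_right hp.out.one_lt).mp h
  have hC := centralizer_le hE.1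
  have hZ : Subgroup.center S ≤ E' := (Subgroup.center_le_centralizer _).trans hC
  have hZeq : Subgroup.center S = (Subgroup.center E).map ι := by
    refine PGroup.eq_of_le_of_card_le (fun z hz => ?_) ?_
    · refine ⟨⟨z, hZ hz⟩, mem_center_iff.mpr fun t => Subtype.ext ?_, rfl⟩
      exact (congrArg Subtype.val (mem_center_iff.mp hz ⟨t, hES t.2⟩) :)
    · rw [card_map_of_injective hιinj, hk']
      obtain ⟨k, hk, hk'⟩ := IsPGroup.card_center_eq_prime_pow hn (by omega)
      rw [hk']
      exact Nat.le_self_pow hk.ne' p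
  have hcent : ∀ {g : Ω}, g ∈ S → ∀ z : E, z ∈ Subgroup.center E → g * z * g⁻¹ = z := by
    intro g hg z hz
    have hzS : ι z ∈ Subgroup.center S := hZeq ▸ mem_map_of_mem ι hz
    have := congrArg Subtype.val (mem_center_iff.mp hzS ⟨g, hg⟩)
    exact mul_inv_eq_iff_eq_mul.mpr this
  have hout : ∀ g : S, (∀ e : E, ⁅g, ι e⁆ ∈ Subgroup.center S) → g ∈ E' := by
    intro g hg
    have hgN : (g : Ω) ∈ normalizerIn S E := by
      refine mem_normalizerIn_of_conj g.2 fun y hy => ?_
      obtain ⟨w, hw, e⟩ := hZeq.le (hg ⟨y, hy⟩)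
      have e' : (w : Ω) = g * y * (g : Ω)⁻¹ * y⁻¹ := by
        have := congrArg Subtype.val e
        simpa [ι, commutatorElement_def] using this
      rw [show (g : Ω) * y * (g : Ω)⁻¹ = (g * y * (g : Ω)⁻¹ * y⁻¹) * y by group, ← e']
      exact mul_mem w.2 hy
    set t := normConj S E ⟨g, hgN⟩
    have htF : t ∈ F.autGroup E :=
      autInducedBy_le_autGroup F le_rfl hES ((range_normConj S E).le ⟨_, rfl⟩)
    let V : ℕ → Subgroup E := fun i => if i = 0 then ⊥ else if i = 1 then Subgroup.center E else ⊤
    have hV : t ∈ pCoreAut F p E := by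
      refine mem_pCoreAut_of_chain hS hES 2 V rfl rfl ?_ ?_ htF ?_
      · intro i hi
        rcases i with _ | _ | i
        · exact bot_le
        · exact le_top
        · omega
      · intro a _ i _ y hy
        rcases i with _ | _ | i
        · rw [show V 0 = ⊥ from rfl, Subgroup.mem_bot] at hy ⊢
          rw [hy, map_one]
        · exact center_char hy
        · exact Subgroup.mem_top _
      · intro i hi y hy
        rcases i with _ | _ | i
        · have h1 : t y = y := Subtype.ext (hcent g.2 y hy)
          rw [h1, inv_mul_cancel]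
          exact one_mem _
        · obtain ⟨w, hw, e⟩ := hZeq.le (hg y)
          have e2 : t y = w * y := Subtype.ext (by
            have := congrArg Subtype.val e
            show (g : Ω) * y * (g : Ω)⁻¹ = w * y
            simp only [ι, commutatorElement_def] at this
            rw [show ((w : E) : Ω) = g * y * (g : Ω)⁻¹ * (y : Ω)⁻¹ by simpa using this]
            group)
          show y⁻¹ * t y ∈ Subgroup.center E
          rw [e2, ← mem_center_iff.mp hw y, inv_mul_cancel_left]
          exact hw
        · omega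
    rw [(isRadical_iff.1 r.radical).2] at hV
    exact mem_of_conj_mem_inn r.cle g.2 hES hV fun y => rfl
  -- exponent `p`
  let θ : E →* E := MonoidHom.mk' (fun y => y ^ p) fun a b =>
    PGroup.mul_pow_classTwo hp.out hp2 hcomm (hpowc b)
  have hZker : Subgroup.center E ≤ θ.ker := fun z hz => MonoidHom.mem_ker.2 (by
    have h := pow_card_eq_one' (G := Subgroup.center E) (x := ⟨z, hz⟩)
    rw [hk'] at h
    exact congrArg Subtype.val h)
  have hker2 : p ^ 2 ≤ Nat.card θ.ker := by
    have h := θ.ker.card_mul_index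
    have hr : θ.range ≤ Subgroup.center E := by rintro _ ⟨y, rfl⟩; exact hpowc y
    rw [index_ker, h27, show (3 : ℕ) = 2 + 1 from rfl, pow_succ] at h
    have h' : Nat.card θ.range ≤ p := hk' ▸ Subgroup.card_le_of_le hr
    exact Nat.le_of_mul_le_mul_right (h.symm.le.trans (Nat.mul_le_mul_left _ h')) hp.out.pos
  have hexp : ∀ y : E, y ^ p = 1 := by
    by_contra hexp
    push Not at hexp
    obtain ⟨y, hy⟩ := hexp
    have hlt : θ.ker < ⊤ := lt_top_iff_ne_top.mpr fun h => hy (MonoidHom.mem_ker.mp (h ▸ mem_top y) :)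
    have hc : Nat.card θ.ker = p ^ 2 := by
      refine le_antisymm ?_ hker2
      have h9 := PGroup.mul_card_le_of_lt hP hlt
      rw [card_top, h27, pow_succ', pow_succ', pow_one] at h9
      rw [pow_two]
      exact Nat.le_of_mul_le_mul_left h9 hp.out.pos
    obtain ⟨g, hgN, hgE⟩ := SetLike.exists_of_lt (lt_normalizerIn hS le_rfl r.lt)
    set t := normConj S E ⟨g, hgN⟩
    have htA : t ∈ autInducedBy S E := (range_normConj S E).le ⟨_, rfl⟩
    have htF : t ∈ F.autGroup E := autInducedBy_le_autGroup F le_rfl hES htA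
    obtain ⟨j, hj⟩ := isPGroup_autInducedBy (P := E) hS ⟨t, htA⟩
    have htj : t ^ p ^ j = 1 := congrArg Subtype.val hj
    have hθinv : ∀ a ∈ F.autGroup E, ∀ y ∈ θ.ker, a y ∈ θ.ker := fun a _ y hy => MonoidHom.mem_ker.2 (by
      show (a y) ^ p = 1
      rw [← map_pow, show y ^ p = 1 from MonoidHom.mem_ker.1 hy, map_one])
    let V : ℕ → Subgroup E := fun i =>
      if i = 0 then ⊥ else if i = 1 then Subgroup.center E else if i = 2 then θ.ker else ⊤
    have hV : t ∈ pCoreAut F p E := by
      refine mem_pCoreAut_of_chain hS hES 3 V rfl rfl ?_ ?_ htF ?_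
      · intro i hi
        rcases i with _ | _ | _ | i
        · exact bot_le
        · exact hZker
        · exact le_top
        · omega
      · intro a ha i _ y hy
        rcases i with _ | _ | _ | i
        · rw [show V 0 = ⊥ from rfl, Subgroup.mem_bot] at hy ⊢
          rw [hy, map_one]
        · exact center_char hy
        · exact hθinv a ha y hy
        · exact Subgroup.mem_top _
      · intro i hi y hy
        rcases i with _ | _ | _ | i
        · have h1 : t y = y := Subtype.ext (hcent hgN.1 y hy)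
          rw [h1, inv_mul_cancel]
          exact one_mem _
        · exact triv_factor hP hZker (by rw [hc, hk', pow_two]) t htj (hθinv t htF)
            (fun z hz => center_char hz) hy
        · exact triv_factor hP (le_top : θ.ker ≤ ⊤) (by rw [card_top, h27, hc, pow_succ']) t htj
            (fun z _ => mem_top _) (hθinv t htF) hy
        · omega
    rw [(isRadical_iff.1 r.radical).2] at hV
    exact hgE (mem_of_conj_mem_inn r.cle hgN.1 hES hV fun y => rfl)
  -- the second centre
  set q := QuotientGroup.mk' (Subgroup.center S)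
  have hqc : ∀ s t : S, ⁅s, t⁆ ∈ Subgroup.center S ↔ q s * q t = q t * q s := fun s t => by
    rw [← QuotientGroup.eq_one_iff, ← commutatorElement_eq_one_iff_mul_comm, ← map_commutatorElement]
    rfl
  set Z2 := (Subgroup.center (S ⧸ Subgroup.center S)).comap q with hZ2
  have hZ2E : Z2 ≤ E' := fun w hw => hout w fun e =>
    (hqc _ _).mpr (mem_center_iff.mp hw (q (ι e))).symm
  have hZ2c : p ^ 2 ≤ Nat.card Z2 := by
    have hlt : Subgroup.center S < Z2 := by
      have hle : Subgroup.center S ≤ Z2 := fun z hz => by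
        rw [hZ2, mem_comap, show q z = 1 from (QuotientGroup.eq_one_iff z).mpr hz]
        exact one_mem _
      refine lt_of_le_of_ne hle fun h => ?_
      have hnt : Nontrivial (S ⧸ Subgroup.center S) := QuotientGroup.nontrivial_iff.mpr fun h' =>
        hne (top_le_iff.mp (h' ▸ hZ))
      have hc := (hS.to_quotient (Subgroup.center S)).center_nontrivial
      obtain ⟨⟨w, hw⟩, hw1⟩ := exists_ne (1 : Subgroup.center (S ⧸ Subgroup.center S))
      obtain ⟨s, rfl⟩ := QuotientGroup.mk'_surjective _ w
      have hs : s ∈ Z2 := hw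
      rw [← h] at hs
      exact hw1 (Subtype.ext ((QuotientGroup.eq_one_iff s).mpr hs))
    have h := PGroup.mul_card_le_of_lt hS hlt
    rwa [hZeq, card_map_of_injective hιinj, hk', ← pow_two] at h
  obtain ⟨x, hx, hx2⟩ : ∃ x ∈ E', x ∉ Z2 := by
    by_contra h
    push Not at h
    refine hne (eq_top_iff.mpr fun g _ => hout g fun e => ?_)
    exact (hqc _ _).mpr (mem_center_iff.mp (h (ι e) e.2) (q g))
  have hsup := PGroup.eq_sup_zpowers_of_card hS hZ2E (by
    rw [hc', pow_succ']; exact Nat.mul_le_mul_left _ hZ2c) hx hx2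
  set x₀ : E := ⟨x, hx⟩ with hx₀
  have hxE : x₀ ∉ Subgroup.center E := fun h => hx2 (by
    have hxZ : x ∈ Subgroup.center S := hZeq ▸ ⟨x₀, h, rfl⟩
    rw [hZ2, mem_comap, show q x = 1 from (QuotientGroup.eq_one_iff x).mpr hxZ]
    exact one_mem _)
  refine ⟨x, hn, by omega, congrArg ι (hexp x₀), ?_⟩
  have heq : centralizer ({x} : Set S) = (centralizer ({x₀} : Set E)).map ι := by
    apply le_antisymm
    · intro g hg
      have hgE : g ∈ E' := by
        refine hout g fun e => ?_
        have hle : E' ≤ (centralizer ({q g} : Set (S ⧸ Subgroup.center S))).comap q := by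
          rw [← hsup]
          refine sup_le (fun w hw => ?_) (zpowers_le.mpr ?_)
          · exact mem_centralizer_singleton_iff.mpr (mem_center_iff.mp hw (q g)).symm
          · exact mem_centralizer_singleton_iff.mpr
              (by rw [← map_mul, ← map_mul, mem_centralizer_singleton_iff.mp hg])
        exact (hqc _ _).mpr (mem_centralizer_singleton_iff.mp (hle (show ι e ∈ E' from e.2))).symm
      have hgx : g * x = x * g := mem_centralizer_singleton_iff.mp hg
      have hgx' : (g : Ω) * x = x * g := congrArg Subtype.val hgx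
      exact ⟨⟨g, hgE⟩, mem_centralizer_singleton_iff.mpr (Subtype.ext hgx'), rfl⟩
    · rintro _ ⟨w, hw, rfl⟩
      exact mem_centralizer_singleton_iff.mpr (congrArg ι (mem_centralizer_singleton_iff.mp hw))
  rw [heq, card_map_of_injective hιinj]
  refine le_antisymm ?_ ?_
  · have hlt : centralizer ({x₀} : Set E) < ⊤ := lt_top_iff_ne_top.mpr fun h =>
      hxE (by simpa using centralizer_eq_top_iff_subset.mp h)
    have h9 := PGroup.mul_card_le_of_lt hP hlt
    rw [card_top, h27, pow_succ', pow_succ', pow_one] at h9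
    rw [pow_two]
    exact Nat.le_of_mul_le_mul_left h9 hp.out.pos
  · have hlt : Subgroup.center E < centralizer ({x₀} : Set E) := lt_of_le_of_ne (center_le_centralizer _)
      fun h => hxE (h ▸ mem_centralizer_singleton_iff.mpr rfl)
    have h9 := PGroup.mul_card_le_of_lt hP hlt
    rwa [hk', ← pow_two] at h9

end Cfsg.Agent.PearlRank
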