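import Cfsg.Agent.Lib.PearlRank.Basic
import Cfsg.Agent.Lib.BurnsideBasis.Basic
import Cfsg.Agent.Lib.Solvable.Basic

/-!
# Every subgroup is generated by at most p elements
-/

set_option autoImplicit false
set_option linter.unusedSectionVars false

open Subgroup
open scoped commutatorElement

universe u

namespace Cfsg.Agent.PearlRank

variable {X : Type u} [Group X] [Finite X] {p n : ℕ} [hp : Fact p.Prime] {s : X}

theorem exists_finset (hX : IsPGroup p X) {H : Subgroup X} (h : (frattini H).index ≤ p ^ p) :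
    ∃ T : Finset X, T.card ≤ p ∧ Subgroup.closure (T : Set X) = H := by
  classical
  obtain ⟨m, hm⟩ := PGroup.exists_card_eq_pow (hX.to_subgroup H)
  obtain ⟨r, hr⟩ := IsPGroup.index (hX.to_subgroup H) (frattini H)
  have hr2 : r ≤ p := (Nat.pow_le_pow_iff_right hp.out.one_lt).mp (by rw [← hr]; exact h)
  obtain ⟨f, hf⟩ := BurnsideBasis.exists_generating hm hr
  refine ⟨Finset.univ.image fun i => ((f i : H) : X), Finset.card_image_le.trans (by simpa using hr2), ?_⟩
  have h1 := congrArg (Subgroup.map H.subtype) hf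
  rw [MonoidHom.map_closure, ← MonoidHom.range_eq_map, range_subtype] at h1
  conv_rhs => rw [← h1]
  congr 1
  ext x
  simp

/-- A subgroup with an element having centralizer of order `p ^ 2` is generated by two elements. -/
theorem index_frattini_of_cent (hX : Nat.card X = p ^ n) {H : Subgroup X} {y : X} (hyH : y ∈ H)
    (hy : Nat.card (centralizer ({y} : Set X)) = p ^ 2) : (frattini H).index ≤ p ^ 2 := by
  have hP : IsPGroup p X := IsPGroup.of_card hX
  obtain ⟨m, hm⟩ := PGroup.exists_card_eq_pow (hP.to_subgroup H)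
  rcases le_or_gt m 2 with h2 | h3
  · exact (Nat.le_of_dvd Nat.card_pos (frattini H).index_dvd_card).trans
      (hm ▸ Nat.pow_le_pow_right hp.out.pos h2)
  set C := centralizer ({(⟨y, hyH⟩ : H)} : Set H) with hC
  have hCle : Nat.card C ≤ p ^ 2 := by
    rw [← hy]
    refine Nat.card_le_card_of_injective (fun g => (⟨((g : H) : X), ?_⟩ : centralizer ({y} : Set X))) ?_
    · exact mem_centralizer_singleton_iff.mpr (congrArg Subtype.val (mem_centralizer_singleton_iff.mp g.2))
    · intro a b e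
      exact Subtype.ext (Subtype.ext (by simpa using e))
  have hC2 : Nat.card C = p ^ 2 := by
    refine le_antisymm hCle ?_
    obtain ⟨k, hk, hZ⟩ := IsPGroup.card_center_eq_prime_pow hm (by omega)
    by_cases hyc : (⟨y, hyH⟩ : H) ∈ center H
    · have h : C = ⊤ := centralizer_eq_top_iff_subset.mpr (by simpa using hyc)
      rw [h, card_top, hm]
      exact Nat.pow_le_pow_right hp.out.pos h3.le
    · have hlt : center H < C := lt_of_le_of_ne (center_le_centralizer _) fun h =>
        hyc (h ▸ mem_centralizer_singleton_iff.mpr rfl)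
      have h1 := PGroup.mul_card_le_of_lt (hP.to_subgroup H) hlt
      rw [hZ, ← pow_succ'] at h1
      exact (Nat.pow_le_pow_right hp.out.pos (by omega : 2 ≤ k + 1)).trans h1
  have hL := PGroup.card_lcs_of_maximal_class (by omega : 3 ≤ m) hm (maximal_of_cent hm hC2) (le_refl 1) (by omega)
  rw [Subgroup.top_lowerCentralSeries_one] at hL
  refine (Nat.le_of_dvd (Nat.pos_of_ne_zero index_ne_zero_of_finite) (index_dvd_of_le
    (PGroup.commutator_le_frattini (hP.to_subgroup H)))).trans ?_
  have h1 := (_root_.commutator H).card_mul_index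
  rw [hL, hm, show m = (m - 1 - 1) + 2 by omega, pow_add, show m - 1 - 1 + 2 - 1 - 1 = m - 1 - 1 by omega] at h1
  exact (Nat.eq_of_mul_eq_mul_left (pow_pos hp.out.pos _) h1).le

namespace Pc

variable (c : Pc X p n s)

include c

theorem pow_gen {k : ℕ} (hk : ¬ p ∣ k) : Pc X p n (s ^ k) := by
  refine ⟨c.card, c.three_le, by rw [← pow_mul, mul_comm, pow_mul, c.pow, one_pow], ?_⟩
  rw [← c.cent]
  have hle : ∀ g, g ∈ centralizer ({s ^ k} : Set X) ↔ g ∈ centralizer ({s} : Set X) := by
    intro g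
    rw [mem_centralizer_singleton_iff, mem_centralizer_singleton_iff]
    refine ⟨fun h => ?_, fun h => ((show Commute g s from h).pow_right k).eq⟩
    obtain ⟨m, hm⟩ := exists_pow_eq_self_of_coprime (n := k) (x := s) (by
      have ho := orderOf_eq_prime c.pow fun e => c.not_mem_center (e ▸ one_mem _)
      rw [ho]
      exact ((hp.out.coprime_iff_not_dvd).2 hk).symm)
    have := ((show Commute g (s ^ k) from h).pow_right m).eq
    rwa [hm] at this
  exact Nat.card_congr (Equiv.subtypeEquivRight hle)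

theorem cent_coset {k : ℕ} (hk : ¬ p ∣ k) {a : X} (ha : a ∈ L X 1) :
    Nat.card (centralizer ({a * s ^ k} : Set X)) = p ^ 2 := by
  have c' := c.pow_gen hk
  obtain ⟨g, hg⟩ := c'.exists_conj ha
  rw [← c'.cent, ← hg]
  refine Nat.card_congr ((MulAut.conj g).symm.toEquiv.subtypeEquiv fun h => ?_)
  show h ∈ centralizer ({g * s ^ k * g⁻¹} : Set X) ↔ (MulAut.conj g).symm h ∈ centralizer ({s ^ k} : Set X)
  rw [mem_centralizer_singleton_iff, mem_centralizer_singleton_iff, MulAut.conj_symm_apply]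
  constructor
  · intro e
    calc g⁻¹ * h * g * s ^ k = g⁻¹ * (h * (g * s ^ k * g⁻¹)) * g := by group
      _ = g⁻¹ * (g * s ^ k * g⁻¹ * h) * g := by rw [e]
      _ = s ^ k * (g⁻¹ * h * g) := by group
  · intro e
    calc h * (g * s ^ k * g⁻¹) = g * (g⁻¹ * h * g * s ^ k) * g⁻¹ := by group
      _ = g * (s ^ k * (g⁻¹ * h * g)) * g⁻¹ := by rw [e]
      _ = g * s ^ k * g⁻¹ * h := by group

/-- The subgroups inside `L₁` have large power subgroups. -/
theorem card_le_pow_closure {H : Subgroup X} (K : Subgroup X) (hK : ∀ h ∈ H, h ^ p ∈ K) :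
    ∀ {i : ℕ}, 1 ≤ i → Nat.card ↥(H ⊓ L X i) ≤ p ^ (p - 1) * Nat.card ↥(K ⊓ L X (i + p - 1)) := by
  suffices H' : ∀ d i, n ≤ i + d → 1 ≤ i →
      Nat.card ↥(H ⊓ L X i) ≤ p ^ (p - 1) * Nat.card ↥(K ⊓ L X (i + p - 1)) from
    fun {i} hi => H' n i (by omega) hi
  intro d
  induction d with
  | zero =>
    intro i hd hi
    rw [c.L_bot (by omega : n - 1 ≤ i), inf_bot_eq, card_bot]
    exact Nat.mul_pos (pow_pos hp.out.pos _) Nat.card_pos
  | succ d ih =>
    intro i hd hi
    by_cases hbig : n - 1 < i + p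
    · refine (Subgroup.card_le_of_le inf_le_right).trans ?_
      rw [c.card_L hi]
      exact (Nat.pow_le_pow_right hp.out.pos (by omega)).trans (Nat.le_mul_of_pos_right _ Nat.card_pos)
    have hanti : L X (i + 1) ≤ L X i := Subgroup.lowerCentralSeries_antitone _ (Nat.le_succ i)
    have hantik : L X (i + 1 + p - 1) ≤ L X (i + p - 1) := Subgroup.lowerCentralSeries_antitone _ (by omega)
    have ih' := ih (i + 1) (by omega) (by omega)
    by_cases heq : ∀ h ∈ H ⊓ L X i, h ∈ L X (i + 1)
    · exact (Subgroup.card_le_of_le (le_inf inf_le_left heq)).trans (ih'.trans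
        (Nat.mul_le_mul_left _ (Subgroup.card_le_of_le (inf_le_inf_left K hantik))))
    push Not at heq
    obtain ⟨h, hh, hh'⟩ := heq
    obtain ⟨hp1, hp2⟩ := c.pow_sharp hi (by omega) hh.2 hh'
    have hstep : Nat.card ↥(H ⊓ L X i) ≤ p * Nat.card ↥(H ⊓ L X (i + 1)) := by
      haveI : (L X (i + 1)).Normal := inferInstance
      have h1 := Solvable.card_eq_card_map_mul (QuotientGroup.mk' (L X (i + 1))) (H ⊓ L X i)
      rw [QuotientGroup.ker_mk', inf_assoc, inf_of_le_right hanti] at h1
      rw [h1]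
      refine Nat.mul_le_mul_right _ ?_
      refine (Subgroup.card_le_of_le (map_mono inf_le_right)).trans ?_
      have h2 := Solvable.card_eq_card_map_mul (QuotientGroup.mk' (L X (i + 1))) (L X i)
      rw [QuotientGroup.ker_mk', inf_of_le_right hanti, c.card_L hi, c.card_L (by omega : 1 ≤ i + 1),
        show n - 1 - i = n - 1 - (i + 1) + 1 by have := hp.out.two_le; omega, pow_succ'] at h2
      exact (Nat.eq_of_mul_eq_mul_right (pow_pos hp.out.pos _) h2).ge
    have hKstep : p * Nat.card ↥(K ⊓ L X (i + 1 + p - 1)) ≤ Nat.card ↥(K ⊓ L X (i + p - 1)) := by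
      refine PGroup.mul_card_le_of_lt c.pGroup (lt_of_le_of_ne (inf_le_inf_left K hantik) fun e => hp2 ?_)
      have := e.ge ⟨hK h hh.1, hp1⟩
      rw [show i + 1 + p - 1 = i + p by omega] at this
      exact this.2
    calc Nat.card ↥(H ⊓ L X i) ≤ p * Nat.card ↥(H ⊓ L X (i + 1)) := hstep
      _ ≤ p * (p ^ (p - 1) * Nat.card ↥(K ⊓ L X (i + 1 + p - 1))) := Nat.mul_le_mul_left _ ih'
      _ = p ^ (p - 1) * (p * Nat.card ↥(K ⊓ L X (i + 1 + p - 1))) := by ring
      _ ≤ _ := Nat.mul_le_mul_left _ hKstep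

/-- The bound on the number of generators. -/
theorem exists_gen (H : Subgroup X) : ∃ T : Finset X, T.card ≤ p ∧ Subgroup.closure (T : Set X) = H := by
  refine exists_finset c.pGroup ?_
  by_cases hout : ∃ a ∈ L X 1, ∃ k : ℕ, ¬ p ∣ k ∧ a * s ^ k ∈ H
  · obtain ⟨a, ha, k, hk, hH⟩ := hout
    exact (index_frattini_of_cent c.card hH (c.cent_coset hk ha)).trans
      (Nat.pow_le_pow_right hp.out.pos hp.out.two_le)
  push Not at hout
  set K := (frattini H).map H.subtype
  have hK : ∀ h ∈ H, h ^ p ∈ K := fun h hh =>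
    ⟨⟨h, hh⟩ ^ p, BurnsideBasis.pow_mem_frattini (c.pGroup.to_subgroup H) _, rfl⟩
  -- a normal subgroup of index `p` meeting `H` inside `L₁`
  set M := L X 1 ⊔ zpowers s
  haveI : M.Normal := Subgroup.Normal.of_commutator_le (G := X) (H := M)
    ((Subgroup.top_lowerCentralSeries_one (G := X)).ge.trans le_sup_left)
  have hM : M.index ≤ p := by
    have h1 := PGroup.mul_card_le_of_lt c.pGroup
      (left_lt_sup.2 fun h => c.not_mem_L_one (h (mem_zpowers s)) : L X 1 < M)
    have h2 := M.card_mul_index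
    rw [c.card, show n = n - 1 - 1 + 1 + 1 by have := c.three_le; omega, pow_succ, pow_succ'] at h2
    rw [c.card_L le_rfl] at h1
    exact Nat.le_of_mul_le_mul_left ((Nat.mul_le_mul_right _ h1).trans h2.le)
      (Nat.mul_pos hp.out.pos (pow_pos hp.out.pos _))
  have hinf : H ⊓ M ≤ H ⊓ L X 1 := by
    rintro g ⟨hgH, hgM⟩
    refine ⟨hgH, ?_⟩
    haveI : (L X 1).Normal := inferInstance
    obtain ⟨a, ha, b, hb, rfl⟩ := mem_sup_of_normal_left.mp hgM
    obtain ⟨k, rfl⟩ := mem_powers_iff_mem_zpowers.mpr hb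
    by_contra hab
    by_cases hk : p ∣ k
    · obtain ⟨t, rfl⟩ := hk
      refine hab ?_
      show a * s ^ (p * t) ∈ L X 1
      rw [pow_mul, c.pow, one_pow, mul_one]
      exact ha
    · exact hout a ha k hk hgH
  have h1 := Solvable.card_eq_card_map_mul (QuotientGroup.mk' M) H
  rw [QuotientGroup.ker_mk'] at h1
  have h2 : Nat.card (H.map (QuotientGroup.mk' M)) ≤ p := by
    refine (Subgroup.card_le_card_group _).trans ?_
    rw [← index_eq_card]
    exact hM
  have h3 : Nat.card H ≤ p ^ p * Nat.card K := by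
    calc Nat.card H = Nat.card (H.map (QuotientGroup.mk' M)) * Nat.card ↥(H ⊓ M) := h1
      _ ≤ p * Nat.card ↥(H ⊓ L X 1) := Nat.mul_le_mul h2 (Subgroup.card_le_of_le hinf)
      _ ≤ p * (p ^ (p - 1) * Nat.card ↥(K ⊓ L X (1 + p - 1))) :=
        Nat.mul_le_mul_left _ (c.card_le_pow_closure K hK le_rfl)
      _ ≤ p * (p ^ (p - 1) * Nat.card K) :=
        Nat.mul_le_mul_left _ (Nat.mul_le_mul_left _ (Subgroup.card_le_of_le inf_le_left))
      _ = p ^ p * Nat.card K := by
        rw [← mul_assoc, ← pow_succ', show p - 1 + 1 = p by have := hp.out.two_le; omega]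
  have h4 := (frattini H).card_mul_index
  rw [show Nat.card K = Nat.card (frattini H) from Nat.card_congr
    (Subgroup.equivMapOfInjective _ _ H.subtype_injective).symm.toEquiv, ← h4, mul_comm (p ^ p)] at h3
  exact Nat.le_of_mul_le_mul_left h3 Nat.card_pos

end Pc

end Cfsg.Agent.PearlRank
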